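import Cfsg.Prelude.Def_GeometricClasses
import Cfsg.Agent.Lib.GeomClasses.SympDecomp

/-!
Maximal subgroups of symplectic groups of arbitrary rank: decomposition.
-/

set_option autoImplicit false
open Cfsg

namespace CfsgLib.SympMaxAnyRank.Decomposition

open Matrix CfsgLib.GeomClasses CfsgLib.GeomClasses.Symp

variable {ι : Type} [Fintype ι] [DecidableEq ι] {F : Type*} [Field F] {f : (ι → F) → (ι → F) → F}

theorem exists_nonorth_both (hf : Cfsg.Geo.IsSymplecticForm f) {W : Submodule F (ι → F)}
    (hW : Cfsg.Geo.IsNondegenerateOn f W) {x y : ι → F} (hx : x ∈ W) (hy : y ∈ W) (hx0 : x ≠ 0)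
    (hy0 : y ≠ 0) : ∃ z ∈ W, f x z ≠ 0 ∧ f y z ≠ 0 := by
  obtain ⟨p, hp, hxp⟩ := (hW x hx hx0).2
  obtain ⟨q, hq, hyq⟩ := (hW y hy hy0).2
  by_cases h1 : f y p = 0
  · by_cases h2 : f x q = 0
    · exact ⟨p + q, W.add_mem hp hq, by rwa [Symp.add_right hf, h2, add_zero],
        by rwa [Symp.add_right hf, h1, zero_add]⟩
    · exact ⟨q, hq, h2, hyq⟩
  · exact ⟨p, hp, hxp, h1⟩

theorem two_le_finrank (hf : Cfsg.Geo.IsSymplecticForm f) {W : Submodule F (ι → F)}
    (hW : Cfsg.Geo.IsNondegenerateOn f W) {x : ι → F} (hx : x ∈ W) (hx0 : x ≠ 0) :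
    2 ≤ Module.finrank F W := by
  obtain ⟨p, hp, hxp⟩ := (hW x hx hx0).2
  by_contra hlt
  have hspan : Submodule.span F {x} = W := Submodule.eq_of_le_of_finrank_le
    ((Submodule.span_singleton_le_iff_mem _ _).2 hx) (by rw [finrank_span_singleton hx0]; omega)
  rw [← hspan, Submodule.mem_span_singleton] at hp
  obtain ⟨c, rfl⟩ := hp
  simp [Symp.smul_right hf, hf.alternating] at hxp

/-- A vector of W with prescribed pairing with x, outside the line of x. -/
theorem exists_pairing (hf : Cfsg.Geo.IsSymplecticForm f) {W : Submodule F (ι → F)}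
    (hW : Cfsg.Geo.IsNondegenerateOn f W) {x : ι → F} (hx : x ∈ W) (hx0 : x ≠ 0)
    (a : F) (h : a ≠ 0 ∨ 3 ≤ Module.finrank F W) :
    ∃ y ∈ W, f x y = a ∧ y ≠ 0 ∧ x + y ≠ 0 := by
  obtain ⟨p, hp, hxp⟩ := (hW x hx hx0).2
  by_cases ha : a = 0
  · have h3 := h.resolve_left (fun h => h ha)
    obtain ⟨y, hy, hy'⟩ : ∃ y ∈ W, y ∉ Submodule.span F {x, p} := by
      by_contra h
      push Not at h
      classical
      have h1 := Submodule.finrank_mono (show W ≤ Submodule.span F {x, p} from h)
      have h2 := finrank_span_finset_le_card (R := F) ({x, p} : Finset (ι → F))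
      rw [Finset.coe_pair] at h2
      have h4 : Finset.card ({x, p} : Finset (ι → F)) ≤ 2 := Finset.card_le_two
      change Module.finrank F (Submodule.span F ({x, p} : Set (ι → F))) ≤ _ at h2
      omega
    refine ⟨y - (f x y / f x p) • p, W.sub_mem hy (W.smul_mem _ hp), ?_, fun h => hy' ?_, fun h => hy' ?_⟩
    · rw [Symp.sub_right hf, Symp.smul_right hf, div_mul_cancel₀ _ hxp, sub_self, ha]
    · rw [sub_eq_zero.1 h]
      exact Submodule.smul_mem _ _ (Submodule.subset_span (Set.mem_insert_of_mem _ rfl))
    · rw [show y = -x + (f x y / f x p) • p by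
        have e : x + y - (f x y / f x p) • p = 0 := by rw [add_sub_assoc]; exact h
        rw [sub_eq_zero.1 e |>.symm]; abel]
      exact Submodule.add_mem _ (Submodule.neg_mem _ (Submodule.subset_span (Set.mem_insert _ _)))
        (Submodule.smul_mem _ _ (Submodule.subset_span (Set.mem_insert_of_mem _ rfl)))
  · refine ⟨(a / f x p) • p, W.smul_mem _ hp, by rw [Symp.smul_right hf, div_mul_cancel₀ _ hxp], ?_, ?_⟩
    · intro h0
      have := congrArg (f x) h0
      rw [Symp.smul_right hf, div_mul_cancel₀ _ hxp, Symp.zero_right hf] at this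
      exact ha this
    · intro h0
      have := congrArg (f x) h0
      rw [Symp.add_right hf, Symp.smul_right hf, div_mul_cancel₀ _ hxp, Symp.zero_right hf,
        hf.alternating, zero_add] at this
      exact ha this

theorem maximal_decomposition {F : Type*} [Field F] [Fintype F] (m : ℕ) {t : ℕ} (k : ℕ) (D : Fin t → Submodule F (Fin m ⊕ Fin m → F)) (hD : Cfsg.Geo.IsNondegenerateMDecomposition (Cfsg.sympForm m F) k D) (hex : ¬ (k = 2 ∧ Fintype.card F = 2)) : Cfsg.Geo.IsMaximalIn (Cfsg.spGL m F) (Cfsg.Geo.decompositionStabilizer D ⊓ Cfsg.spGL m F) := by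
  classical
  have hf := isSymplecticForm_sympForm (F := F) m
  have hd := hD.decomp
  have hsum := Decomp.form_eq_sum hd (sesq hf) hD.orthogonal
  have hk2 : 2 ≤ k := by
    obtain ⟨v, hv, hv0⟩ := Decomp.exists_ne_zero hd ⟨0, by have := hd.two_le; omega⟩
    rw [← hd.finrank_eq ⟨0, by have := hd.two_le; omega⟩]
    exact two_le_finrank hf (hD.nondegenerate _) hv hv0
  let i₀ : Fin t := ⟨0, by have := hd.two_le; omega⟩
  let i₁ : Fin t := ⟨1, by have := hd.two_le; omega⟩
  have hi : i₀ ≠ i₁ := by simp [i₀, i₁]
  refine ⟨lt_of_le_of_ne inf_le_right fun heq => ?_, fun M hle hMle => ?_⟩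
  · obtain ⟨a, ha, ha0⟩ := Decomp.exists_ne_zero hd i₀
    obtain ⟨b, hb, hb0⟩ := Decomp.exists_ne_zero hd i₁
    obtain ⟨x, hx, hxa, hx0, -⟩ := exists_pairing hf (hD.nondegenerate i₀) ha ha0 1 (Or.inl one_ne_zero)
    have hxa' : sympForm m F x a = -1 := by rw [hf.skew, hxa]
    have hg := formTv_mem_spGL (F := F) m (a + b) 1
    rw [← heq] at hg
    obtain ⟨σ, hσ⟩ := hg.1
    have himg : x + sympForm m F x (a + b) • (a + b) ∈ D (σ i₀) := by
      rw [← hσ i₀]
      exact ⟨x, hx, by rw [Matrix.toLin'_apply, formTv_mulVec hf, one_mul]⟩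
    rw [Symp.add_right hf, hxa', hD.orthogonal i₀ i₁ hi x hx b hb, add_zero, neg_one_smul, neg_add] at himg
    by_cases hσ0 : σ i₀ = i₁
    · have := Decomp.comp_of_mem_ne hd (i := i₀) (by rw [hσ0]; exact hi.symm) himg
      simp only [map_add, map_smul, Decomp.comp_of_mem hd hx, Decomp.comp_of_mem hd ha,
        Decomp.comp_of_mem_ne hd hi.symm hb, map_neg, add_zero, neg_zero] at this
      rw [eq_neg_of_add_eq_zero_left this, neg_neg, hf.alternating] at hxa
      exact zero_ne_one hxa
    · have := Decomp.comp_of_mem_ne hd (i := i₁) hσ0 himg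
      simp only [map_add, map_smul, Decomp.comp_of_mem_ne hd hi hx, Decomp.comp_of_mem_ne hd hi ha,
        Decomp.comp_of_mem hd hb, map_neg, neg_zero, zero_add, neg_eq_zero] at this
      exact hb0 this
  · by_cases hall : M ≤ Cfsg.Geo.decompositionStabilizer D
    · exact Or.inl (le_antisymm (le_inf hall hMle) hle)
    right
    apply eq_spGL_of_centres hMle
    set C := centres (Cfsg.sympForm m F) M with hC
    have hDC : ∀ i, ∀ v ∈ D i, v ∈ C := fun i v hv c =>
      hle ⟨SympDecomp.formTv_mem_stabilizer hf hD hv c, formTv_mem_spGL m v c⟩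
    have hpair : ∀ (x : Fin m ⊕ Fin m → F) (i : Fin t), ∀ y ∈ D i,
        sympForm m F x y = sympForm m F (Decomp.comp hd i x) y := fun x i y hy =>
      Decomp.form_comp_left hd (sesq hf) hD.orthogonal x hy
    -- moving a non-zero component
    have move : ∀ x ∈ C, ∀ i, Decomp.comp hd i x ≠ 0 → ∀ a ∈ D i, a ≠ 0 →
        x + (a - Decomp.comp hd i x) ∈ C := by
      intro x hx i hxi a ha ha0
      set b := Decomp.comp hd i x with hb
      have hbD : b ∈ D i := Decomp.comp_mem hd i x
      obtain ⟨z, hz, hbz, haz⟩ := exists_nonorth_both hf (hD.nondegenerate i) hbD ha hxi ha0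
      have h1 := centres_step hf hx (hDC i _ ((D i).sub_mem hz hbD))
        (by rwa [hpair x i _ ((D i).sub_mem hz hbD), ← hb, Symp.sub_right hf, hf.alternating, sub_zero]) 1
      rw [one_smul] at h1
      have hcz : Decomp.comp hd i (x + (z - b)) = z := by
        rw [Decomp.comp_add_of_mem hd _ ((D i).sub_mem hz hbD), ← hb, add_sub_cancel]
      have h2 := centres_step hf h1 (hDC i _ ((D i).sub_mem ha hz))
        (by
          rw [hpair _ i _ ((D i).sub_mem ha hz), hcz, Symp.sub_right hf, hf.alternating, sub_zero]
          exact ne_zero_comm hf haz) 1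
      rwa [one_smul, add_assoc, show z - b + (a - z) = a - b by abel] at h2
    have move_all : ∀ (s : Finset (Fin t)), ∀ x ∈ C, ∀ y : Fin m ⊕ Fin m → F,
        (∀ i, Decomp.comp hd i x = 0 ↔ Decomp.comp hd i y = 0) →
        (∀ i, i ∉ s → Decomp.comp hd i x = Decomp.comp hd i y) → y ∈ C := by
      intro s
      induction s using Finset.induction_on with
      | empty =>
        intro x hx y _ h
        rwa [← Decomp.eq_of_comp hd fun i => h i (Finset.notMem_empty i)]
      | insert j s hj ih =>
        intro x hx y h0 heq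
        by_cases hxj : Decomp.comp hd j x = 0
        · refine ih x hx y h0 fun i hi => ?_
          by_cases hij : i = j
          · rw [hij, hxj, (h0 j).1 hxj]
          · exact heq i (by simp [hij, hi])
        · have hyj : Decomp.comp hd j y ≠ 0 := fun h => hxj ((h0 j).2 h)
          have hm' := move x hx j hxj _ (Decomp.comp_mem hd j y) hyj
          have hmem : Decomp.comp hd j y - Decomp.comp hd j x ∈ D j :=
            (D j).sub_mem (Decomp.comp_mem hd j y) (Decomp.comp_mem hd j x)
          have hsame : Decomp.comp hd j (x + (Decomp.comp hd j y - Decomp.comp hd j x)) =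
              Decomp.comp hd j y := by
            rw [Decomp.comp_add_of_mem hd _ hmem, add_sub_cancel]
          have hother : ∀ i, i ≠ j → Decomp.comp hd i (x + (Decomp.comp hd j y - Decomp.comp hd j x)) =
              Decomp.comp hd i x := fun i hi => Decomp.comp_add_of_mem_ne hd (Ne.symm hi) x hmem
          refine ih _ hm' y (fun i => ?_) (fun i hi => ?_)
          · by_cases hij : i = j
            · rw [hij, hsame]
            · rw [hother i hij]; exact h0 i
          · by_cases hij : i = j
            · rw [hij, hsame]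
            · rw [hother i hij]; exact heq i (by simp [hij, hi])
    have sameSupp : ∀ x ∈ C, ∀ y, Decomp.supp hd x = Decomp.supp hd y → y ∈ C := fun x hx y h =>
      move_all Finset.univ x hx y
        (fun i => by simpa [Decomp.mem_supp] using not_iff_not.2 (Finset.ext_iff.1 h i))
        (fun i hi => absurd (Finset.mem_univ i) hi)
    -- a centre with two non-zero components
    obtain ⟨i, v, hv, hcard⟩ : ∃ i, ∃ v ∈ C, i ∈ Decomp.supp hd v ∧ 2 ≤ (Decomp.supp hd v).card := by
      obtain ⟨g, hgM, hg⟩ := SetLike.not_le_iff_exists.1 hall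
      obtain ⟨l, v, hv, h2⟩ := Decomp.exists_two_le_supp_of_notMem hd hg
      obtain ⟨i, hi⟩ := Finset.card_pos.1 (by omega : 0 < (Decomp.supp hd
        ((g : Matrix (Fin m ⊕ Fin m) (Fin m ⊕ Fin m) F) *ᵥ v)).card)
      exact ⟨i, _, centres_invariant_spGL hMle hgM (hDC l v hv), hi, h2⟩
    obtain ⟨hiS, hcard⟩ := hcard
    obtain ⟨j, hjS, hji⟩ := Finset.exists_mem_ne (by omega : 1 < (Decomp.supp hd v).card) i
    rw [Decomp.mem_supp] at hiS hjS
    -- down to exactly two components
    obtain ⟨p, hp, hps⟩ : ∃ p ∈ C, Decomp.supp hd p = {i, j} := by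
      set xi := Decomp.comp hd i v with hxi
      set xj := Decomp.comp hd j v with hxj
      obtain ⟨a, b, hab, ha, hb⟩ : ∃ a b : F, a + b ≠ 0 ∧ (a ≠ 0 ∨ 3 ≤ k) ∧ (b ≠ 0 ∨ 3 ≤ k) := by
        by_cases hk3 : 3 ≤ k
        · exact ⟨1, 0, by simp, Or.inr hk3, Or.inr hk3⟩
        · have hq : Fintype.card F ≠ 2 := fun h => hex ⟨by omega, h⟩
          have hq' : 2 < Fintype.card F := by
            have := Fintype.one_lt_card (α := F)
            omega
          obtain ⟨c, -, hc⟩ : ∃ c ∈ (Finset.univ : Finset F), c ∉ ({0, -1} : Finset F) :=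
            Finset.exists_mem_notMem_of_card_lt_card (lt_of_le_of_lt Finset.card_le_two hq')
          simp only [Finset.mem_insert, Finset.mem_singleton, not_or] at hc
          exact ⟨1, c, fun h => hc.2 (eq_neg_of_add_eq_zero_right h), Or.inl one_ne_zero, Or.inl hc.1⟩
      obtain ⟨yi, hyi, fi, yi0, yi1⟩ := exists_pairing hf (hD.nondegenerate i) (Decomp.comp_mem hd i v) hiS a
        (ha.imp_right fun h => by rw [hd.finrank_eq]; exact h)
      obtain ⟨yj, hyj, fj, yj0, yj1⟩ := exists_pairing hf (hD.nondegenerate j) (Decomp.comp_mem hd j v) hjS b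
        (hb.imp_right fun h => by rw [hd.finrank_eq]; exact h)
      rw [← hxi] at fi yi1
      rw [← hxj] at fj yj1
      let y : Fin t → (Fin m ⊕ Fin m → F) :=
        fun l => if l = i then yi else if l = j then yj else - Decomp.comp hd l v
      have hy : ∀ l, y l ∈ D l := fun l => by
        simp only [y]
        split_ifs with h1 h2
        · exact h1 ▸ hyi
        · exact h2 ▸ hyj
        · exact (D l).neg_mem (Decomp.comp_mem hd l v)
      have hcy : ∀ l, Decomp.comp hd l (∑ l, y l) = y l := Decomp.comp_sum hd y hy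
      have hY : ∑ l, y l ∈ C := by
        refine sameSupp v hv _ (Finset.ext fun l => ?_)
        simp only [Decomp.mem_supp, hcy, y]
        split_ifs with h1 h2
        · subst h1; exact iff_of_true hiS yi0
        · subst h2; exact iff_of_true hjS yj0
        · simp
      have hfy : sympForm m F v (∑ l, y l) ≠ 0 := by
        rw [hsum, Finset.sum_eq_add i j (Ne.symm hji) ?_ (by simp) (by simp)]
        · simp only [hcy, y, if_true, if_neg hji, ← hxi, ← hxj, fi, fj]
          exact hab
        · intro l _ hl
          simp [hcy, y, hl.1, hl.2, Symp.neg_right hf, hf.alternating]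
      have := centres_step hf hv hY hfy 1
      rw [one_smul] at this
      refine ⟨_, this, Finset.ext fun l => ?_⟩
      simp only [Decomp.mem_supp, map_add, hcy, y, Finset.mem_insert, Finset.mem_singleton]
      split_ifs with h1 h2
      · subst h1; simpa [← hxi] using yi1
      · subst h2; simpa [← hxj] using yj1
      · simp [h1, h2]
    -- every pair of components
    have swapped : ∀ x ∈ C, ∀ a b : Fin t, ∃ y ∈ C,
        Decomp.supp hd y = (Decomp.supp hd x).map (Equiv.swap a b).toEmbedding := by
      intro x hx a b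
      obtain ⟨g, hg, hgD⟩ := SympDecomp.exists_swap hf hD a b
      have hgM : g ∈ M := hle ⟨⟨_, hgD⟩, hg⟩
      refine ⟨_, centres_invariant_spGL hMle hgM hx, Finset.ext fun l => ?_⟩
      rw [Finset.mem_map_equiv, Decomp.mem_supp, Decomp.mem_supp]
      conv_lhs => rw [← (Equiv.swap a b).apply_symm_apply l, Decomp.comp_mulVec hd hgD]
      exact ⟨fun h h0 => h (by rw [h0, mulVec_zero]), fun h => gl_mulVec_ne_zero g h⟩
    have pairs : ∀ a b : Fin t, a ≠ b → ∃ x ∈ C, Decomp.supp hd x = {a, b} := by
      intro a b hab
      obtain ⟨x, hx, hxs⟩ := swapped p hp i a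
      rw [hps, Finset.map_insert, Finset.map_singleton] at hxs
      simp only [Equiv.coe_toEmbedding, Equiv.swap_apply_left] at hxs
      set j' := Equiv.swap i a j with hj'
      have hj'a : j' ≠ a := fun h => hji ((Equiv.swap i a).injective (h.trans (Equiv.swap_apply_left i a).symm))
      obtain ⟨x', hx', hxs'⟩ := swapped x hx j' b
      refine ⟨x', hx', ?_⟩
      rw [hxs', hxs, Finset.map_insert, Finset.map_singleton]
      simp [Equiv.swap_apply_of_ne_of_ne hj'a.symm hab]
    -- growing the support
    have grow : ∀ s : Finset (Fin t), ∀ y, Decomp.supp hd y = s → y ∈ C := by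
      intro s
      induction s using Finset.induction_on with
      | empty =>
        intro y hy
        have : y = 0 := Decomp.eq_of_comp hd fun l => by
          have := Finset.ext_iff.1 hy l
          simpa [Decomp.mem_supp] using this
        rw [this]
        exact hDC i 0 (D i).zero_mem
      | insert b s hb ih =>
        intro y hy
        obtain rfl | ⟨a, ha⟩ := s.eq_empty_or_nonempty
        · refine hDC b y (Decomp.mem_of_comp_eq_zero hd fun l hl => ?_)
          have := Finset.ext_iff.1 hy l
          simpa [Decomp.mem_supp, hl] using this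
        · have hab : a ≠ b := fun h => hb (h ▸ ha)
          -- remove the b-component
          set yb := Decomp.comp hd b y with hyb
          have hsup : ∀ l, l ∈ Decomp.supp hd (y - yb) ↔ l ∈ s := fun l => by
            rw [Decomp.mem_supp, map_sub]
            by_cases hl : l = b
            · subst hl
              simp [hyb, Decomp.comp_of_mem hd (Decomp.comp_mem hd l y), hb]
            · have := Finset.ext_iff.1 hy l
              rw [Decomp.comp_of_mem_ne hd (Ne.symm hl) (Decomp.comp_mem hd b y), sub_zero]
              simpa [Decomp.mem_supp, hl] using this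
          have hz := ih _ (Finset.ext hsup)
          have hya : Decomp.comp hd a (y - yb) ≠ 0 := (Decomp.mem_supp hd).1 ((hsup a).2 ha)
          obtain ⟨q, hq, fq, q0, q1⟩ := exists_pairing hf (hD.nondegenerate a) (Decomp.comp_mem hd a (y - yb)) hya 1
            (Or.inl one_ne_zero)
          have hyb0 : yb ≠ 0 := by
            have := Finset.ext_iff.1 hy b
            simpa [Decomp.mem_supp] using this
          have hw : q + yb ∈ C := by
            obtain ⟨x, hx, hxs⟩ := pairs a b hab
            refine sameSupp x hx _ (hxs.trans (Finset.ext fun l => ?_))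
            rw [Decomp.mem_supp, map_add]
            by_cases hla : l = a
            · subst hla
              simp [Decomp.comp_of_mem hd hq, Decomp.comp_of_mem_ne hd hab.symm (Decomp.comp_mem hd b y),
                hyb, q0]
            by_cases hlb : l = b
            · subst hlb
              simp [Decomp.comp_of_mem_ne hd hab hq, Decomp.comp_of_mem hd (Decomp.comp_mem hd l y), hyb]
              exact hyb0
            · simp [Decomp.comp_of_mem_ne hd (Ne.symm hla) hq,
                Decomp.comp_of_mem_ne hd (Ne.symm hlb) (Decomp.comp_mem hd b y), hyb, hla, hlb]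
          have hfw : sympForm m F (y - yb) (q + yb) ≠ 0 := by
            rw [Symp.add_right hf, hpair _ a q hq, fq, hpair _ b yb (Decomp.comp_mem hd b y), map_sub,
              hyb, Decomp.comp_of_mem hd (Decomp.comp_mem hd b y), sub_self, Symp.zero_left hf, add_zero]
            exact one_ne_zero
          have h1 := centres_step hf hz hw hfw 1
          rw [one_smul, show y - yb + (q + yb) = y + q by abel] at h1
          refine sameSupp _ h1 y (Finset.ext fun l => ?_)
          rw [Decomp.mem_supp, Decomp.mem_supp, map_add]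
          by_cases hla : l = a
          · subst hla
            have e : Decomp.comp hd l (y - yb) = Decomp.comp hd l y := by
              rw [map_sub, hyb, Decomp.comp_of_mem_ne hd hab.symm (Decomp.comp_mem hd b y), sub_zero]
            rw [e] at hya q1
            rw [Decomp.comp_of_mem hd hq]
            exact iff_of_true q1 hya
          · rw [Decomp.comp_of_mem_ne hd (Ne.symm hla) hq, add_zero]
    intro y
    exact grow _ y rfl

end CfsgLib.SympMaxAnyRank.Decomposition
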