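import Cfsg.Prelude.Def_GeometricClasses
import Cfsg.Agent.Lib.GeomClasses.Symp

/-!
Maximal subgroups of symplectic groups of arbitrary rank: isotropic.
-/

set_option autoImplicit false
open Cfsg

namespace CfsgLib.SympMaxAnyRank.Isotropic

open Matrix CfsgLib.GeomClasses CfsgLib.GeomClasses.Symp

theorem maximal_isotropic {F : Type*} [Field F] [Fintype F] (m : ℕ) (W : Submodule F (Fin m ⊕ Fin m → F)) (hW0 : W ≠ ⊥) (hW : Cfsg.Geo.IsTotallySingularFor (Cfsg.sympForm m F) W) : Cfsg.Geo.IsMaximalIn (Cfsg.spGL m F) (Cfsg.Geo.subspaceStabilizer W ⊓ Cfsg.spGL m F) := by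
  have hf := isSymplecticForm_sympForm (F := F) m
  have hWP : W ≤ perp hf W := fun x hx w hw => hW w hw x hx
  obtain ⟨a, ha, ha0⟩ := Submodule.exists_mem_ne_zero_of_ne_bot hW0
  refine ⟨lt_of_le_of_ne inf_le_right fun heq => ?_, fun M hle hMle => ?_⟩
  · obtain ⟨x, hx⟩ := (hf.nondegenerate a ha0).2
    have hg : formTv (Cfsg.sympForm m F) x 1 ∈ Cfsg.spGL m F := formTv_mem_spGL m _ _
    rw [← heq] at hg
    have h1 := mem_subspaceStabilizer.1 hg.1 a ha
    rw [formTv_mulVec hf, one_mul] at h1
    exact hx (hWP ((W.smul_mem_iff hx).1 ((W.add_mem_iff_right ha).1 h1)) a ha)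
  · by_cases hall : M ≤ Cfsg.Geo.subspaceStabilizer W
    · exact Or.inl (le_antisymm (le_inf hall hMle) hle)
    right
    apply eq_spGL_of_centres hMle
    set C := centres (Cfsg.sympForm m F) M with hC
    have hPC : ∀ v ∈ perp hf W, v ∈ C := fun v hv c => hle
      ⟨mem_subspaceStabilizer.2 fun x hx => by
        rw [formTv_mulVec hf, (mem_perp hf).1 hv x hx, mul_zero, zero_smul, add_zero]
        exact hx, formTv_mem_spGL m v c⟩
    obtain ⟨w, hw, hwP⟩ : ∃ w ∈ C, w ∉ perp hf W := by
      by_contra h
      push Not at h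
      obtain ⟨g, hgM, hg⟩ := SetLike.not_le_iff_exists.1 hall
      apply hg
      rw [mem_subspaceStabilizer]
      intro v hv
      rw [← perp_perp hf W, mem_perp']
      intro y hy
      -- the image of the perpendicular is the perpendicular
      have hsub : (perp hf W).map (Matrix.toLin' (g : Matrix (Fin m ⊕ Fin m) (Fin m ⊕ Fin m) F)) ≤
          perp hf W := by
        rintro _ ⟨u, hu, rfl⟩
        rw [Matrix.toLin'_apply]
        exact h _ (centres_invariant_spGL hMle hgM (hPC u hu))
      have heq := Submodule.eq_of_le_of_finrank_eq hsub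
        (Submodule.equivMapOfInjective _ (by
          simpa [Function.Injective] using gl_mulVec_injective g) _).finrank_eq.symm
      rw [← heq] at hy
      obtain ⟨y', hy', rfl⟩ := hy
      rw [Matrix.toLin'_apply, mem_spGL.1 (hMle hgM)]
      exact hy' v hv
    -- cosets of the perpendicular
    have coset : ∀ x ∈ C, x ∉ perp hf W → ∀ y ∈ perp hf W, x + y ∈ C := by
      intro x hx hxP y hy
      obtain ⟨a₀, ha₀, hxa⟩ : ∃ a₀ ∈ W, sympForm m F x a₀ ≠ 0 := by
        simpa [mem_perp'] using hxP
      by_cases hxy : sympForm m F x y = 0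
      · have h1 := centres_step hf hx (hPC _ ((perp hf W).add_mem hy (hWP ha₀)))
          (by rwa [Symp.add_right hf, hxy, zero_add]) 1
        have h2 := centres_step hf h1 (hPC _ (hWP ha₀))
          (by
            rw [one_smul, Symp.add_left hf, Symp.add_left hf, hf.alternating, add_zero,
              (mem_perp' hf).1 hy a₀ ha₀, add_zero]
            exact hxa) (-1)
        rwa [one_smul, neg_one_smul, add_assoc, add_assoc, add_neg_cancel, add_zero] at h2
      · simpa using centres_step hf hx (hPC y hy) hxy 1
    -- changing the class modulo the perpendicular by Siegel elements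
    intro v
    by_cases hv : v ∈ perp hf W
    · exact hPC v hv
    by_cases hprop : ∀ a₁ ∈ W, sympForm m F w a₁ ≠ 0 → sympForm m F (v - w) a₁ ≠ 0
    · -- v lies in a coset of a multiple of w
      obtain ⟨a₀, ha₀, hwa⟩ : ∃ a₀ ∈ W, sympForm m F w a₀ ≠ 0 := by
        simpa [mem_perp'] using hwP
      set μ := sympForm m F v a₀ / sympForm m F w a₀ with hμ
      have hd : v - μ • w ∈ perp hf W := by
        rw [mem_perp']
        intro b hb
        by_contra hne
        rw [Symp.sub_left hf, Symp.smul_left hf] at hne
        -- a combination killing v - w but not w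
        set s := sympForm m F (v - w) b with hs
        set t := sympForm m F (v - w) a₀ with ht
        have ht0 : t ≠ 0 := hprop a₀ ha₀ hwa
        refine hprop (b - (s / t) • a₀) (W.sub_mem hb (W.smul_mem _ ha₀)) ?_ ?_
        · rw [Symp.sub_right hf, Symp.smul_right hf]
          intro h0
          apply hne
          rw [hμ]
          rw [hs, ht, Symp.sub_left hf] at h0
          rw [ht, Symp.sub_left hf] at ht0
          rw [Symp.sub_left hf] at h0
          field_simp at h0 ⊢
          linear_combination -h0
        · rw [Symp.sub_right hf, Symp.smul_right hf, ← hs, ← ht, div_mul_cancel₀ _ ht0, sub_self]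
      have hμ0 : μ ≠ 0 := by
        intro h0
        apply hv
        rwa [h0, zero_smul, sub_zero] at hd
      have := coset _ (centres_smul hf hw μ) (fun h => hwP (((perp hf W).smul_mem_iff hμ0).1 h)) _ hd
      rwa [add_sub_cancel] at this
    · push Not at hprop
      obtain ⟨a₁, ha₁, hwa, hda⟩ := hprop
      -- the Siegel element x ↦ x + f(x,a₁) b + f(x,b) a₁ with b ⊥ a₁
      set b := (sympForm m F w a₁)⁻¹ • (v - w) with hb
      have hba : sympForm m F b a₁ = 0 := by rw [hb, Symp.smul_left hf, hda, mul_zero]
      have hab : sympForm m F a₁ b = 0 := by rw [hf.skew, hba, neg_zero]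
      set g : Matrix.GeneralLinearGroup (Fin m ⊕ Fin m) F :=
        formTv (Cfsg.sympForm m F) (a₁ + b) 1 * formTv (Cfsg.sympForm m F) b (-1) *
          formTv (Cfsg.sympForm m F) a₁ (-1) with hg
      have happ : ∀ x, (g : Matrix (Fin m ⊕ Fin m) (Fin m ⊕ Fin m) F) *ᵥ x =
          x + sympForm m F x a₁ • b + sympForm m F x b • a₁ := by
        intro x
        simp only [hg, gl_mul_mulVec, formTv_mulVec hf, Symp.add_left hf, Symp.add_right hf,
          Symp.smul_left hf, hba, hab, hf.alternating]
        module
      have hgM : g ∈ M := hle ⟨mem_subspaceStabilizer.2 fun x hx => by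
        rw [happ, hW x hx a₁ ha₁, zero_smul, add_zero]
        exact W.add_mem hx (W.smul_mem _ ha₁),
        Subgroup.mul_mem _ (Subgroup.mul_mem _ (formTv_mem_spGL m _ _) (formTv_mem_spGL m _ _))
          (formTv_mem_spGL m _ _)⟩
      have := centres_invariant_spGL hMle hgM hw
      rw [happ, show sympForm m F w a₁ • b = v - w by
        rw [hb, smul_smul, mul_inv_cancel₀ hwa, one_smul], add_sub_cancel] at this
      have hvw : v + sympForm m F w b • a₁ ∉ perp hf W := fun h =>
        hv (((perp hf W).add_mem_iff_left ((perp hf W).smul_mem _ (hWP ha₁))).1 h)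
      have h3 := coset _ this hvw _ ((perp hf W).neg_mem ((perp hf W).smul_mem (sympForm m F w b) (hWP ha₁)))
      rwa [add_neg_cancel_right] at h3

end CfsgLib.SympMaxAnyRank.Isotropic
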