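import Cfsg.Prelude.Def_GeometricClasses
import Cfsg.Agent.Lib.SkewPairLow.Max
import Cfsg.Agent.Lib.GeomClasses.Symp

/-!
Maximal subgroups of symplectic groups: pairs of totally isotropic subspaces (rank at least three).
-/

set_option autoImplicit false
open Cfsg

namespace CfsgLib.SympMaxAnyRank.IsotropicPairThree

open Matrix CfsgLib.GeomClasses

theorem maximal_isotropic_pair_ge {F : Type*} [Field F] [Fintype F] (m : ℕ) (hm : 3 ≤ m) (hodd : Odd (Fintype.card F)) (D : Fin 2 → Submodule F (Fin m ⊕ Fin m → F)) (hD : Cfsg.Geo.IsMDecomposition m D) (hts : ∀ i, Cfsg.Geo.IsTotallySingularFor (Cfsg.sympForm m F) (D i)) : Cfsg.Geo.IsMaximalIn (Cfsg.spGL m F) (Cfsg.Geo.decompositionStabilizer D ⊓ Cfsg.spGL m F) := by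
  classical
  have hf := Symp.isSymplecticForm_sympForm (F := F) m
  have h2 : (2 : F) ≠ 0 := by
    intro h2
    have hp : ringChar F = 2 := by
      haveI : CharP F 2 := CharTwo.of_one_ne_zero_of_two_eq_zero one_ne_zero h2
      exact ringChar.eq F 2
    obtain ⟨k, -, hk⟩ := FiniteField.card F (ringChar F)
    rw [hp] at hk
    exact (Nat.not_even_iff_odd.2 hodd) (hk ▸ Nat.even_pow.2 ⟨even_two, k.pos.ne'⟩)
  have S : SkewPair.IsSkewHerm (RingEquiv.refl F) (Cfsg.sympForm m F) :=
    { sesq := Symp.sesq hf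
      involutive := fun a => rfl
      skew := fun x y => by simpa using hf.skew y x
      nondegenerate := fun x hx => (hf.nondegenerate x hx).2
      trace := ⟨1, by simpa [one_add_one_eq_two] using h2⟩
      norms := fun c _ => ⟨(c + 1) / 2, (c - 1) / 2, by simp only [RingEquiv.refl_apply]; field_simp; ring⟩ }
  have P : SkewPairLow.Pair (RingEquiv.refl F) (Cfsg.sympForm m F) D m :=
    { S with
      decomp := hD
      isotropic := hts
      three := hm
      refl := fun a => rfl
      two := h2 }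
  exact SkewPairLow.maximal_pair P (fun g hg => Symp.mem_spGL.1 hg)
    (fun u w γ hu huw hγ => Symp.mem_spGL.2 (SkewPair.root_isometry S hu huw hγ))
    (fun M hM g hg => Symp.isometry_mem_of_formTv_mem hf (fun v c => hM v (hf.alternating v) c rfl)
      (Symp.mem_spGL.1 hg))

theorem maximal_isotropic_pair {F : Type*} [Field F] [Fintype F] (m : ℕ) (hm : m = 3) (hodd : Odd (Fintype.card F)) (D : Fin 2 → Submodule F (Fin m ⊕ Fin m → F)) (hD : Cfsg.Geo.IsMDecomposition m D) (hts : ∀ i, Cfsg.Geo.IsTotallySingularFor (Cfsg.sympForm m F) (D i)) : Cfsg.Geo.IsMaximalIn (Cfsg.spGL m F) (Cfsg.Geo.decompositionStabilizer D ⊓ Cfsg.spGL m F) :=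
  maximal_isotropic_pair_ge m hm.ge hodd D hD hts

end CfsgLib.SympMaxAnyRank.IsotropicPairThree
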