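import Cfsg.Prelude.Def_GeometricClasses
import Cfsg.Agent.Lib.GeomClasses.Symp

/-!
Maximal subgroups of symplectic groups of arbitrary rank: nondegenerate.
-/

set_option autoImplicit false
open Cfsg

namespace CfsgLib.SympMaxAnyRank.Nondegenerate

open Matrix CfsgLib.GeomClasses CfsgLib.GeomClasses.Symp

theorem subspace_in_union {ι : Type} [Fintype ι] {F : Type*} [Field F] {U A B : Submodule F (ι → F)}
    (h : ∀ x ∈ U, x ∈ A ∨ x ∈ B) : U ≤ A ∨ U ≤ B := by
  by_contra hc
  push Not at hc
  obtain ⟨⟨a, haU, haA⟩, ⟨b, hbU, hbB⟩⟩ := SetLike.not_le_iff_exists.1 hc.1, SetLike.not_le_iff_exists.1 hc.2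
  have haB := (h a haU).resolve_left haA
  have hbA := (h b hbU).resolve_right hbB
  rcases h (a + b) (U.add_mem haU hbU) with h' | h'
  · exact haA ((A.add_mem_iff_left hbA).1 h')
  · exact hbB ((B.add_mem_iff_right haB).1 h')

theorem maximal_nondegenerate {F : Type*} [Field F] [Fintype F] (m : ℕ) (W : Submodule F (Fin m ⊕ Fin m → F)) (hW0 : W ≠ ⊥) (hW : Cfsg.Geo.IsNondegenerateOn (Cfsg.sympForm m F) W) (hdim : Module.finrank F W < m) : Cfsg.Geo.IsMaximalIn (Cfsg.spGL m F) (Cfsg.Geo.subspaceStabilizer W ⊓ Cfsg.spGL m F) := by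
  have hf := isSymplecticForm_sympForm (F := F) m
  have hdP := finrank_perp hf W
  rw [Fintype.card_sum, Fintype.card_fin] at hdP
  obtain ⟨a, ha, ha0⟩ := Submodule.exists_mem_ne_zero_of_ne_bot hW0
  have hP0 : perp hf W ≠ ⊥ := by
    intro h
    rw [h, finrank_bot] at hdP
    omega
  obtain ⟨b, hb, hb0⟩ := Submodule.exists_mem_ne_zero_of_ne_bot hP0
  have hdis := (isCompl_perp hf hW).disjoint
  have hcoord : ∀ v ∈ W, ∀ u ∈ perp hf W, v + u = 0 → v = 0 := by
    intro v hv u hu h
    have hvu : v = -u := eq_neg_of_add_eq_zero_left h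
    have : v ∈ perp hf W := hvu ▸ (perp hf W).neg_mem hu
    exact Submodule.disjoint_def.1 hdis v hv this
  refine ⟨lt_of_le_of_ne inf_le_right fun heq => ?_, fun M hle hMle => ?_⟩
  · have hg : formTv (Cfsg.sympForm m F) (a + b) 1 ∈ Cfsg.spGL m F := formTv_mem_spGL m _ _
    rw [← heq] at hg
    obtain ⟨x, hx, hxa⟩ := (hW a ha ha0).1
    have h1 := mem_subspaceStabilizer.1 hg.1 x hx
    rw [formTv_mulVec hf, one_mul, Symp.add_right hf, (mem_perp hf).1 hb x hx, add_zero] at h1
    have h2 := (W.smul_mem_iff hxa).1 ((W.add_mem_iff_right hx).1 h1)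
    exact hb0 (Submodule.disjoint_def.1 hdis b ((W.add_mem_iff_right ha).1 h2) hb)
  · by_cases hall : M ≤ Cfsg.Geo.subspaceStabilizer W
    · exact Or.inl (le_antisymm (le_inf hall hMle) hle)
    right
    apply eq_spGL_of_centres hMle
    set C := centres (Cfsg.sympForm m F) M with hC
    have hWC : ∀ v ∈ W, v ∈ C := fun v hv c => hle
      ⟨mem_subspaceStabilizer.2 fun x hx => by
        rw [formTv_mulVec hf]
        exact W.add_mem hx (W.smul_mem _ hv), formTv_mem_spGL m v c⟩
    have hPC : ∀ v ∈ perp hf W, v ∈ C := fun v hv c => hle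
      ⟨mem_subspaceStabilizer.2 fun x hx => by
        rw [formTv_mulVec hf, (mem_perp hf).1 hv x hx, mul_zero, zero_smul, add_zero]
        exact hx, formTv_mem_spGL m v c⟩
    -- a centre outside both summands
    obtain ⟨w, hw, hwW, hwP⟩ : ∃ w ∈ C, w ∉ W ∧ w ∉ perp hf W := by
      by_contra h
      push Not at h
      obtain ⟨g, hgM, hg⟩ := SetLike.not_le_iff_exists.1 hall
      apply hg
      let L := Matrix.toLin' (g : Matrix (Fin m ⊕ Fin m) (Fin m ⊕ Fin m) F)
      have hinj : Function.Injective L := by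
        simpa [L, Function.Injective] using gl_mulVec_injective g
      have key : ∀ U : Submodule F (Fin m ⊕ Fin m → F), (∀ v ∈ U, v ∈ C) →
          U.map L ≤ W ∨ U.map L ≤ perp hf W := fun U hU => subspace_in_union fun y hy => by
        obtain ⟨v, hv, rfl⟩ := hy
        have := centres_invariant_spGL hMle hgM (hU v hv)
        rw [← Matrix.toLin'_apply] at this
        exact or_iff_not_imp_left.2 (h _ this)
      have hfr : ∀ U : Submodule F (Fin m ⊕ Fin m → F),
          Module.finrank F (U.map L) = Module.finrank F U :=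
        fun U => (Submodule.equivMapOfInjective _ hinj U).finrank_eq.symm
      rw [mem_subspaceStabilizer]
      intro v hv
      rcases key W hWC with h1 | h1
      · exact h1 ⟨v, hv, by simp [L]⟩
      rcases key _ hPC with h2 | h2
      · have := Submodule.finrank_mono h2
        rw [hfr] at this
        omega
      · have heq := Submodule.eq_of_le_of_finrank_eq h2 (hfr _)
        rw [← perp_perp hf W, mem_perp']
        intro y hy
        rw [← heq] at hy
        obtain ⟨y', hy', rfl⟩ := hy
        rw [Matrix.toLin'_apply, mem_spGL.1 (hMle hgM)]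
        exact hy' v hv
    -- spread over the whole space
    obtain ⟨wa, hwa, wb, hwb, hwab⟩ := exists_decomp hf hW w
    have hwa0 : wa ≠ 0 := fun h => hwP (by rw [← hwab, h, zero_add]; exact hwb)
    have hwb0 : wb ≠ 0 := fun h => hwW (by rw [← hwab, h, add_zero]; exact hwa)
    have moveW : ∀ x ∈ W, ∀ y ∈ perp hf W, x ≠ 0 → x + y ∈ C → ∀ x' ∈ W, x' ≠ 0 → x' + y ∈ C := by
      intro x hx y hy hx0 hxy x' hx' hx'0
      have one : ∀ p ∈ W, ∀ q ∈ W, sympForm m F p q ≠ 0 → p + y ∈ C → q + y ∈ C := by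
        intro p hp q hq hpq hpy
        have hd : q - p ∈ W := W.sub_mem hq hp
        have := centres_step hf hpy (hWC _ hd)
          (by rwa [Symp.add_left hf, (mem_perp' hf).1 hy _ hd, add_zero, Symp.sub_right hf,
            hf.alternating, sub_zero]) 1
        rwa [one_smul, show p + y + (q - p) = q + y by abel] at this
      obtain ⟨p, hp, hpx⟩ := (hW x hx hx0).1
      obtain ⟨q, hq, hqx'⟩ := (hW x' hx' hx'0).1
      by_cases h1 : sympForm m F p x' = 0
      · by_cases h2 : sympForm m F q x = 0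
        · have hz : p + q ∈ W := W.add_mem hp hq
          exact one _ hz _ hx' (by rwa [Symp.add_left hf, h1, zero_add])
            (one _ hx _ hz (ne_zero_comm hf (by rwa [Symp.add_left hf, h2, add_zero])) hxy)
        · exact one _ hq _ hx' hqx' (one _ hx _ hq (ne_zero_comm hf h2) hxy)
      · exact one _ hp _ hx' h1 (one _ hx _ hp (ne_zero_comm hf hpx) hxy)
    have hWP : ∀ x ∈ perp hf W, x ≠ 0 → ∃ p ∈ perp hf W, sympForm m F p x ≠ 0 := by
      intro x hx hx0
      obtain ⟨y, hy⟩ := (hf.nondegenerate x hx0).1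
      obtain ⟨ya, hya, yb, hyb, rfl⟩ := exists_decomp hf hW y
      rw [Symp.add_left hf, (mem_perp hf).1 hx ya hya, zero_add] at hy
      exact ⟨yb, hyb, hy⟩
    have moveP : ∀ y ∈ W, ∀ x ∈ perp hf W, x ≠ 0 → y + x ∈ C → ∀ x' ∈ perp hf W, x' ≠ 0 → y + x' ∈ C := by
      intro y hy x hx hx0 hxy x' hx' hx'0
      have one : ∀ p ∈ perp hf W, ∀ q ∈ perp hf W, sympForm m F p q ≠ 0 → y + p ∈ C → y + q ∈ C := by
        intro p hp q hq hpq hpy
        have hd : q - p ∈ perp hf W := (perp hf W).sub_mem hq hp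
        have := centres_step hf hpy (hPC _ hd)
          (by rwa [Symp.add_left hf, (mem_perp hf).1 hd y hy, zero_add, Symp.sub_right hf,
            hf.alternating, sub_zero]) 1
        rwa [one_smul, show y + p + (q - p) = y + q by abel] at this
      obtain ⟨p, hp, hpx⟩ := hWP x hx hx0
      obtain ⟨q, hq, hqx'⟩ := hWP x' hx' hx'0
      by_cases h1 : sympForm m F p x' = 0
      · by_cases h2 : sympForm m F q x = 0
        · have hz : p + q ∈ perp hf W := (perp hf W).add_mem hp hq
          exact one _ hz _ hx' (by rwa [Symp.add_left hf, h1, zero_add])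
            (one _ hx _ hz (ne_zero_comm hf (by rwa [Symp.add_left hf, h2, add_zero])) hxy)
        · exact one _ hq _ hx' hqx' (one _ hx _ hq (ne_zero_comm hf h2) hxy)
      · exact one _ hp _ hx' h1 (one _ hx _ hp (ne_zero_comm hf hpx) hxy)
    intro v
    obtain ⟨va, hva, vb, hvb, rfl⟩ := exists_decomp hf hW v
    by_cases h1 : va = 0
    · rw [h1, zero_add]; exact hPC _ hvb
    by_cases h2 : vb = 0
    · rw [h2, add_zero]; exact hWC _ hva
    exact moveP va hva wb hwb hwb0
      (moveW wa hwa wb hwb hwa0 (hwab ▸ hw) va hva h1) vb hvb h2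

end CfsgLib.SympMaxAnyRank.Nondegenerate
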